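import Mathlib.Algebra.Polynomial.Monomial
import Mathlib.Algebra.Polynomial.Eval.Defs
import Mathlib.RingTheory.GradedAlgebra.Basic
import Mathlib.AlgebraicGeometry.ProjectiveSpectrum.Basic

/-! A ring with an isomorphism to a polynomial ring, graded by the monomials: its `Proj` is affine. -/

set_option autoImplicit false

noncomputable section

universe u

open AlgebraicGeometry CategoryTheory Polynomial DirectSum HomogeneousLocalization

namespace Groth.Agent.FiniteProjective

variable {A B : Type u} [CommRing A] [CommRing B] (e : B ≃+* A[X])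

/-- degree `n` part -/
def monGr (n : ℕ) : AddSubgroup B :=
  (e.symm.toAddMonoidHom.comp (monomial n : A →ₗ[A] A[X]).toAddMonoidHom).range

theorem mem_monGr {n : ℕ} {x : B} : x ∈ monGr e n ↔ ∃ a, e.symm (monomial n a) = x := Iff.rfl

theorem e_eq_of_mem {n : ℕ} {x : B} (hx : x ∈ monGr e n) : e x = monomial n ((e x).coeff n) := by
  obtain ⟨a, rfl⟩ := (mem_monGr e).1 hx
  simp

instance : SetLike.GradedMonoid (monGr e) where
  one_mem := (mem_monGr e).2 ⟨1, by simp⟩
  mul_mem i j x y hx hy := by
    obtain ⟨a, rfl⟩ := (mem_monGr e).1 hx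
    obtain ⟨b, rfl⟩ := (mem_monGr e).1 hy
    exact (mem_monGr e).2 ⟨a * b, by rw [← map_mul, monomial_mul_monomial]⟩

/-- the embedding of a graded piece -/
def ofA (n : ℕ) : A →+ monGr e n :=
  (e.symm.toAddMonoidHom.comp (monomial n : A →ₗ[A] A[X]).toAddMonoidHom).rangeRestrict

theorem coe_ofA (n : ℕ) (a : A) : (ofA e n a : B) = e.symm (monomial n a) := rfl

/-- decomposition -/
def dec : B →+ ⨁ n, monGr e n where
  toFun x := (e x).sum fun n a => DirectSum.of (fun k => monGr e k) n (ofA e n a)
  map_zero' := by simp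
  map_add' x y := by
    rw [map_add, Polynomial.sum_add_index]
    · simp
    · simp

theorem dec_monomial (n : ℕ) (a : A) :
    dec e (e.symm (monomial n a)) = DirectSum.of (fun k => monGr e k) n (ofA e n a) := by
  show (e (e.symm (monomial n a))).sum (fun n a => DirectSum.of (fun k => monGr e k) n (ofA e n a)) = _
  rw [RingEquiv.apply_symm_apply, Polynomial.sum_monomial_index _ _ (by simp)]

instance gradedRing : GradedRing (monGr e) :=
  { (inferInstance : SetLike.GradedMonoid (monGr e)),
    DirectSum.Decomposition.ofAddHom (monGr e) (dec e)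
      (by
        refine AddMonoidHom.ext fun x => ?_
        obtain ⟨p, rfl⟩ : ∃ p, e.symm p = x := ⟨e x, e.symm_apply_apply x⟩
        induction p using Polynomial.induction_on' with
        | add p q hp hq => simp only [map_add] at *; rw [hp, hq]
        | monomial n a =>
          simp only [AddMonoidHom.comp_apply, dec_monomial, DirectSum.coeAddMonoidHom_of, AddMonoidHom.id_apply,
            coe_ofA])
      (by
        refine DirectSum.addHom_ext fun n x => ?_
        obtain ⟨x, a, rfl⟩ := x
        simp only [AddMonoidHom.comp_apply, DirectSum.coeAddMonoidHom_of, AddMonoidHom.id_apply]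
        exact dec_monomial e n a) with }

theorem mem_closure (x : B) : x ∈ Subring.closure ((monGr e 0 : Set B) ∪ (monGr e 1 : Set B)) := by
  obtain ⟨p, rfl⟩ : ∃ p, e.symm p = x := ⟨e x, e.symm_apply_apply x⟩
  induction p using Polynomial.induction_on' with
  | add p q hp hq => rw [map_add]; exact add_mem hp hq
  | monomial n a =>
    have : monomial n a = monomial 0 a * monomial 1 (1 : A) ^ n := by simp [monomial_pow, monomial_mul_monomial]
    rw [this, map_mul, map_pow]
    have h0 : e.symm (monomial 0 a) ∈ Subring.closure ((monGr e 0 : Set B) ∪ (monGr e 1 : Set B)) :=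
      Subring.subset_closure (Or.inl ((mem_monGr e).2 ⟨a, rfl⟩))
    have h1 : e.symm (monomial 1 1) ∈ Subring.closure ((monGr e 0 : Set B) ∪ (monGr e 1 : Set B)) :=
      Subring.subset_closure (Or.inr ((mem_monGr e).2 ⟨1, rfl⟩))
    exact mul_mem h0 (pow_mem h1 n)

/-- the generator in degree one -/
def gen : B := e.symm (monomial 1 1)

theorem gen_mem : gen e ∈ monGr e 1 := (mem_monGr e).2 ⟨1, rfl⟩

theorem gen_pow (n : ℕ) : gen e ^ n = e.symm (monomial n 1) := by
  rw [gen, ← map_pow, monomial_pow]; simp

/-- degree zero part is the coefficient ring -/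
def zeroEquiv : monGr e 0 ≃+* A where
  toFun x := (e (x : B)).coeff 0
  invFun a := ⟨e.symm (monomial 0 a), (mem_monGr e).2 ⟨a, rfl⟩⟩
  left_inv x := Subtype.ext (by
    show e.symm (monomial 0 ((e (x : B)).coeff 0)) = x
    rw [← e_eq_of_mem e x.2, e.symm_apply_apply])
  right_inv a := by simp
  map_mul' x y := by simp [mul_coeff_zero]
  map_add' x y := by simp

theorem zeroEquiv_apply (x : monGr e 0) : zeroEquiv e x = (e (x : B)).coeff 0 := rfl

theorem bijective_fromZero : Function.Bijective (fromZeroRingHom (monGr e) (Submonoid.powers (gen e))) := by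
  constructor
  · rw [injective_iff_map_eq_zero]
    intro x hx
    have h := congrArg HomogeneousLocalization.val hx
    rw [HomogeneousLocalization.val_zero] at h
    change HomogeneousLocalization.val (HomogeneousLocalization.mk ⟨0, x, 1, one_mem _⟩) = 0 at h
    rw [HomogeneousLocalization.val_mk, ← Localization.mk_zero (1 : Submonoid.powers (gen e)),
      Localization.mk_eq_mk_iff, Localization.r_iff_exists] at h
    obtain ⟨⟨_, k, rfl⟩, hk⟩ := h
    have hk' : gen e ^ k * (x : B) = 0 := by simpa using hk
    have := congrArg e hk'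
    rw [map_mul, gen_pow, e.apply_symm_apply, e_eq_of_mem e x.2, monomial_mul_monomial, map_zero, one_mul,
      monomial_eq_zero_iff] at this
    exact Subtype.ext (e.injective (by rw [e_eq_of_mem e x.2, this]; simp))
  · intro z
    obtain ⟨n, b, hb, rfl⟩ := Away.mk_surjective (monGr e) (gen_mem e) z
    obtain ⟨a, rfl⟩ := (mem_monGr e).1 hb
    refine ⟨⟨e.symm (monomial 0 a), (mem_monGr e).2 ⟨a, rfl⟩⟩, HomogeneousLocalization.val_injective _ ?_⟩
    change HomogeneousLocalization.val (HomogeneousLocalization.mk
      ⟨0, ⟨e.symm (monomial 0 a), (mem_monGr e).2 ⟨a, rfl⟩⟩, 1, one_mem _⟩) = _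
    rw [Away.val_mk, HomogeneousLocalization.val_mk, Localization.mk_eq_mk_iff, Localization.r_iff_exists]
    refine ⟨1, ?_⟩
    simp [gen_pow, ← map_mul, monomial_mul_monomial]

theorem basicOpen_gen : Proj.basicOpen (monGr e) (gen e) = ⊤ := by
  refine top_le_iff.1 fun x _ => ?_
  rw [Proj.mem_basicOpen]
  intro hx
  apply x.not_irrelevant_le
  rw [HomogeneousIdeal.irrelevant_le]
  intro i hi b hb
  obtain ⟨a, rfl⟩ := (mem_monGr e).1 hb
  show e.symm (monomial i a) ∈ x.asHomogeneousIdeal.toIdeal
  have : monomial i a = monomial 0 a * monomial 1 (1 : A) ^ i := by simp [monomial_pow, monomial_mul_monomial]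
  rw [this, map_mul, map_pow]
  exact Ideal.mul_mem_left _ _ (Ideal.pow_mem_of_mem _ hx i hi)

theorem isIso_toSpecZero : IsIso (Proj.toSpecZero (monGr e)) := by
  have h1 : IsIso (Proj.awayι (monGr e) (gen e) (gen_mem e) one_pos) := by
    apply isIso_of_isOpenImmersion_of_opensRange_eq_top
    rw [Proj.opensRange_awayι, basicOpen_gen]
  have h2 : IsIso (Proj.awayι (monGr e) (gen e) (gen_mem e) one_pos ≫ Proj.toSpecZero (monGr e)) := by
    rw [Proj.awayι_toSpecZero]
    haveI : IsIso (CommRingCat.ofHom (fromZeroRingHom (monGr e) (Submonoid.powers (gen e)))) :=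
      (RingEquiv.ofBijective _ (bijective_fromZero e)).toCommRingCatIso.isIso_hom
    infer_instance
  exact IsIso.of_isIso_comp_left (Proj.awayι (monGr e) (gen e) (gen_mem e) one_pos) _

end Groth.Agent.FiniteProjective
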