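import Groth.Prelude.Def_RelProj
import Groth.Agent.SymAlgRel.Glue
import Groth.Agent.EGA2Misc.RelProjMap
import Groth.Agent.FiniteProjective.Ring

/-! A finite morphism is projective: `X = Proj (f_* O_X)[t]`. -/

set_option autoImplicit false

noncomputable section

universe u

open CategoryTheory CategoryTheory.Limits AlgebraicGeometry TopologicalSpace Opposite Polynomial
open scoped HomogeneousIdeal
open Groth.Agent.SymAlgRel

namespace Groth.Agent.FiniteProjective

variable {X Y : Scheme.{u}} (f : X ⟶ Y) [IsAffineHom f]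

/-- `U ↦ Γ(X, f⁻¹U)[t]` -/
def polyFun : Y.AffineZariskiSiteᵒᵖ ⥤ CommRingCat.{u} where
  obj U := CommRingCat.of (Polynomial Γ(X, f ⁻¹ᵁ U.unop.toOpens))
  map {U V} i := CommRingCat.ofHom (Polynomial.mapRingHom
    (X.presheaf.map (homOfLE (f.preimage_mono (Scheme.AffineZariskiSite.toOpens_mono i.unop.le))).op).hom)
  map_id U := by
    refine CommRingCat.hom_ext (Polynomial.ringHom_ext (fun a => ?_) ?_)
    · simp
    · simp
  map_comp {U V W} i k := by
    refine CommRingCat.hom_ext (Polynomial.ringHom_ext (fun a => ?_) ?_)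
    · simp only [CommRingCat.hom_ofHom, CommRingCat.hom_comp, RingHom.comp_apply, coe_mapRingHom, map_C]
      rw [← ConcreteCategory.comp_apply, ← Functor.map_comp]
      rfl
    · simp

/-- the structure map -/
def polyStr : (Scheme.AffineZariskiSite.toOpensFunctor Y).op ⋙ Y.presheaf ⟶ polyFun f where
  app U := CommRingCat.ofHom ((Polynomial.C).comp (f.app U.unop.toOpens).hom)
  naturality U V i := by
    refine CommRingCat.hom_ext (RingHom.ext fun r => ?_)
    refine Eq.trans ?_ (Polynomial.map_C _).symm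
    exact congrArg Polynomial.C (ConcreteCategory.congr_hom
      (f.naturality (homOfLE (Scheme.AffineZariskiSite.toOpens_mono i.unop.le)).op) r)

theorem polyStr_coequifibered : (polyStr f).Coequifibered := by
  refine Scheme.AffineZariskiSite.coequifibered_iff_forall_isLocalizationAway.mpr fun U r => ?_
  letI alg : Algebra Γ(X, f ⁻¹ᵁ U.toOpens) Γ(X, f ⁻¹ᵁ Y.basicOpen r) :=
    (X.presheaf.map (homOfLE (f.preimage_mono (Y.basicOpen_le r))).op).hom.toAlgebra
  have h : IsLocalization.Away (f.app U.toOpens r) Γ(X, f ⁻¹ᵁ Y.basicOpen r) :=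
    RelSpec.QCAlg.isQC_pushforward f U.toOpens U.2 r
  have h2 := Polynomial.isLocalization (Submonoid.powers (f.app U.toOpens r)) Γ(X, f ⁻¹ᵁ Y.basicOpen r)
  rw [Submonoid.map_powers] at h2
  exact h2

/-- the quasi-coherent algebra -/
def polyAlg : RelSpec.QCAlg Y := algOfAffine (polyStr_coequifibered f)

section gen

variable (P : RelSpec.QCAlg Y)
  (e : ∀ (U : Y.Opens), IsAffineOpen U → (P.presheaf.obj (op U) ≃+* Polynomial Γ(X, f ⁻¹ᵁ U)))
  (hstr : ∀ (U : Y.Opens) (hU : IsAffineOpen U) (r : Γ(Y, U)),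
    e U hU ((P.str.app (op U)).hom r) = monomial 0 ((f.app U).hom r))
  (hres : ∀ (U : Y.Opens) (hU : IsAffineOpen U) (r : Γ(Y, U)) (x : P.presheaf.obj (op U)),
    e (Y.basicOpen r) (hU.basicOpen r) ((P.presheaf.map (homOfLE (Y.basicOpen_le r)).op).hom x) =
      (e U hU x).map (X.presheaf.map (homOfLE (f.preimage_mono (Y.basicOpen_le r))).op).hom)

/-- graded pieces -/
def deg (U : Y.Opens) (hU : IsAffineOpen U) (n : ℕ) : AddSubgroup (P.presheaf.obj (op U)) :=
  monGr (e U hU) n

include hres in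
theorem mem_res_basic {U : Y.Opens} (hU : IsAffineOpen U) (r : Γ(Y, U)) {d : ℕ}
    {x : P.presheaf.obj (op U)} (hx : x ∈ deg f P e U hU d) :
    (P.presheaf.map (homOfLE (Y.basicOpen_le r)).op).hom x ∈
      deg f P e (Y.basicOpen r) (hU.basicOpen r) d := by
  obtain ⟨a, rfl⟩ := (mem_monGr _).1 hx
  refine (mem_monGr _).2 ⟨(X.presheaf.map (homOfLE (f.preimage_mono (Y.basicOpen_le r))).op).hom a, ?_⟩
  apply (e _ (hU.basicOpen r)).injective
  rw [RingEquiv.apply_symm_apply, hres _ hU r, RingEquiv.apply_symm_apply, map_monomial]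

include hres in
theorem map_mem {U V : Y.Opens} (hU : IsAffineOpen U) (hV : IsAffineOpen V) (i : V ≤ U) {d : ℕ}
    {x : P.presheaf.obj (op U)} (hx : x ∈ deg f P e U hU d) :
    (P.presheaf.map (homOfLE i).op).hom x ∈ deg f P e V hV d := by
  rw [deg, mem_monGr]
  let y := e V hV ((P.presheaf.map (homOfLE i).op).hom x)
  refine ⟨y.coeff d, ?_⟩
  apply (e V hV).injective
  rw [RingEquiv.apply_symm_apply]
  show monomial d (y.coeff d) = y
  refine Polynomial.ext fun n => ?_
  rw [coeff_monomial]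
  split_ifs with hn
  · rw [hn]
  · -- check on a cover by common basic opens
    refine (eq_comm.1 ?_)
    have key : ∀ p : V, ∃ W : Y.Opens, p.1 ∈ W ∧ ∃ (hWV : W ≤ V),
        (X.presheaf.map (homOfLE (f.preimage_mono hWV)).op).hom (y.coeff n) = 0 := by
      intro p
      obtain ⟨r, s, hrs, hp⟩ := exists_basicOpen_le_affine_inter hU hV p.1 ⟨i p.2, p.2⟩
      refine ⟨Y.basicOpen s, hrs ▸ hp, Y.basicOpen_le s, ?_⟩
      have hmem := mem_res_basic f P e hres hU r hx
      rw [deg] at hmem
      have h0 := e_eq_of_mem _ hmem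
      have h1 : (X.presheaf.map (homOfLE (f.preimage_mono (Y.basicOpen_le s))).op).hom (y.coeff n) =
          (e (Y.basicOpen s) (hV.basicOpen s)
            ((P.presheaf.map (homOfLE (Y.basicOpen_le s)).op).hom
              ((P.presheaf.map (homOfLE i).op).hom x))).coeff n := by
        rw [hres _ hV s, coeff_map]
      rw [h1, ← ConcreteCategory.comp_apply, ← Functor.map_comp]
      have h2 : ∀ (W : Y.Opens) (hW : IsAffineOpen W) (hWr : Y.basicOpen r = W) (hWU : W ≤ U),
          (e W hW ((P.presheaf.map (homOfLE hWU).op).hom x)).coeff n = 0 := by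
        rintro W hW rfl hWU
        rw [h0, coeff_monomial, if_neg hn]
      exact h2 (Y.basicOpen s) (hV.basicOpen s) hrs ((Y.basicOpen_le s).trans i)
    refine TopCat.Sheaf.eq_of_locally_eq' (F := X.sheaf) (fun p : V => f ⁻¹ᵁ (key p).choose) (f ⁻¹ᵁ V)
      (fun p => homOfLE (f.preimage_mono (key p).choose_spec.2.choose)) (fun q hq => ?_) _ _ fun p => ?_
    · exact Opens.mem_iSup.2 ⟨⟨f q, hq⟩, (key ⟨f q, hq⟩).choose_spec.1⟩
    · exact ((key p).choose_spec.2.choose_spec).trans (map_zero _).symm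

/-- the graded algebra `(f_* O_X)[t]` -/
def grAlg : RelProj.QCGrAlg Y :=
  RelProj.QCGrAlg.mk P (deg f P e) (fun U hU => gradedRing (e U hU))
    (fun {_ _} hU hV i {_ _} hx => map_mem f P e hres hU hV i hx)
    (fun U hU r => (mem_monGr _).2 ⟨(f.app U).hom r, by rw [← hstr U hU r, RingEquiv.symm_apply_apply]⟩)

/-- degree zero part of the algebra -/
def zmap (U : Y.Opens) (hU : IsAffineOpen U) :
    CommRingCat.of ((grAlg f P e hstr hres).deg U hU 0) ⟶ Γ(X, f ⁻¹ᵁ U) :=
  CommRingCat.ofHom (zeroEquiv (e U hU)).toRingHom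

theorem isIso_zmap (U : Y.Opens) (hU : IsAffineOpen U) : IsIso (zmap f P e hstr hres U hU) :=
  (zeroEquiv (e U hU)).toCommRingCatIso.isIso_hom

theorem zmap_apply (U : Y.Opens) (hU : IsAffineOpen U) (x : (grAlg f P e hstr hres).deg U hU 0) :
    (zmap f P e hstr hres U hU).hom x = (e U hU x.1).coeff 0 := rfl

/-- the affine chart -/
def chart (U : Y.Opens) (hU : IsAffineOpen U) :
    ((f ⁻¹ᵁ U : X.Opens) : Scheme.{u}) ≅ Proj ((grAlg f P e hstr hres).deg U hU) :=
  haveI : IsIso (Proj.toSpecZero ((grAlg f P e hstr hres).deg U hU)) := isIso_toSpecZero (e U hU)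
  haveI := isIso_zmap f P e hstr hres U hU
  (hU.preimage f).isoSpec ≪≫ asIso (Spec.map (zmap f P e hstr hres U hU)) ≪≫
    (asIso (Proj.toSpecZero ((grAlg f P e hstr hres).deg U hU))).symm

theorem chart_toSpecZero (U : Y.Opens) (hU : IsAffineOpen U) :
    (chart f P e hstr hres U hU).hom ≫ Proj.toSpecZero ((grAlg f P e hstr hres).deg U hU) =
      (hU.preimage f).isoSpec.hom ≫ Spec.map (zmap f P e hstr hres U hU) := by
  simp [chart]

theorem isRelProj : RelProj.IsRelProj (grAlg f P e hstr hres) f (chart f P e hstr hres) where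
  chart_over U hU := by
    rw [← Category.assoc, chart_toSpecZero f P e hstr hres, Category.assoc, ← Spec.map_comp_assoc]
    have h : (grAlg f P e hstr hres).strZero U hU ≫ zmap f P e hstr hres U hU =
        f.appLE U (f ⁻¹ᵁ U) le_rfl := by
      refine CommRingCat.hom_ext (RingHom.ext fun r => ?_)
      show (e U hU ((P.str.app (op U)).hom r)).coeff 0 = _
      rw [hstr, coeff_monomial, if_pos rfl, Scheme.Hom.appLE_eq_app]
    rw [h, hU.SpecMap_appLE_fromSpec f (hU.preimage f), IsAffineOpen.isoSpec_hom_fromSpec_assoc]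
  chart_res U hU r := by
    haveI : IsIso (Proj.toSpecZero ((grAlg f P e hstr hres).deg U hU)) := isIso_toSpecZero (e U hU)
    rw [← cancel_mono (Proj.toSpecZero ((grAlg f P e hstr hres).deg U hU))]
    simp only [Category.assoc]
    rw [chart_toSpecZero f P e hstr hres, EGA2Misc.map_toSpecZero, ← Category.assoc (chart f P e hstr hres _ _).hom, chart_toSpecZero f P e hstr hres,
      Category.assoc, ← Spec.map_comp]
    have h : CommRingCat.ofHom (EGA2Misc.zeroPart ((grAlg f P e hstr hres).res hU (hU.basicOpen r) (Y.basicOpen_le r))) ≫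
        zmap f P e hstr hres (Y.basicOpen r) (hU.basicOpen r) =
        zmap f P e hstr hres U hU ≫
          X.presheaf.map (homOfLE (f.preimage_mono (Y.basicOpen_le r))).op := by
      refine CommRingCat.hom_ext (RingHom.ext fun x => ?_)
      show (e (Y.basicOpen r) (hU.basicOpen r)
        ((P.presheaf.map (homOfLE (Y.basicOpen_le r)).op).hom x.1)).coeff 0 = _
      rw [hres _ hU r, coeff_map]
      rfl
    rw [h, Spec.map_comp, ← Category.assoc, ← Category.assoc]
    congr 1
    rw [← cancel_mono (hU.preimage f).fromSpec]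
    simp only [Category.assoc]
    rw [IsAffineOpen.map_fromSpec (hU.preimage f) ((hU.basicOpen r).preimage f)]
    simp

include hstr hres in
theorem isProjective_aux [IsFinite f] : RelProj.IsProjective f := by
  refine ⟨grAlg f P e hstr hres, X, f, chart f P e hstr hres, Iso.refl X, fun U hU => top_le_iff.1 fun x _ =>
    mem_closure (e U hU) x, fun U hU => ?_, isRelProj f P e hstr hres, Category.id_comp f⟩
  classical
  letI := (f.app U).hom.toAlgebra
  haveI : Module.Finite Γ(Y, U) Γ(X, f ⁻¹ᵁ U) := f.finite_app U hU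
  obtain ⟨s, hs⟩ := (Module.Finite.fg_top : (⊤ : Submodule Γ(Y, U) Γ(X, f ⁻¹ᵁ U)).FG)
  let m : Γ(X, f ⁻¹ᵁ U) → P.presheaf.obj (op U) := fun a => (e U hU).symm (monomial 1 a)
  have hm : Function.Injective m := fun a b h => monomial_injective 1 ((e U hU).symm.injective h)
  refine ⟨s.image m, fun x hx => ?_, fun x hx => ?_⟩
  · obtain ⟨a, _, rfl⟩ := Finset.mem_image.1 (Finset.mem_coe.1 hx)
    exact (mem_monGr _).2 ⟨a, rfl⟩
  · obtain ⟨a, rfl⟩ := (mem_monGr (e U hU)).1 hx
    have ha : a ∈ Submodule.span Γ(Y, U) (↑s : Set Γ(X, f ⁻¹ᵁ U)) := by rw [hs]; trivial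
    obtain ⟨c, _, hc⟩ := Submodule.mem_span_finset.1 ha
    refine ⟨fun t => c ((e U hU t).coeff 1), ?_⟩
    show (e U hU).symm (monomial 1 a) = ∑ t ∈ s.image m, (P.str.app (op U)).hom (c ((e U hU t).coeff 1)) * t
    rw [Finset.sum_image fun a _ b _ h => hm h, ← hc]
    apply (e U hU).injective
    rw [RingEquiv.apply_symm_apply, map_sum, map_sum]
    refine Finset.sum_congr rfl fun b _ => ?_
    show _ = e U hU ((P.str.app (op U)).hom _ * m b)
    rw [map_mul, hstr]
    simp [m, Algebra.smul_def, monomial_mul_monomial, RingHom.algebraMap_toAlgebra]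



end gen

omit [IsAffineHom f] in
theorem isProjective [IsFinite f] : RelProj.IsProjective f := by
  let eqv := algOfAffineIso (polyStr_coequifibered f)
  refine isProjective_aux f (polyAlg f)
    (fun U hU => (eqv.app (op ⟨U, hU⟩)).commRingCatIsoToRingEquiv) (fun U hU r => ?_) (fun U hU r x => ?_)
  · exact ConcreteCategory.congr_hom (str_algOfAffineIso (polyStr_coequifibered f) ⟨U, hU⟩) r
  · exact ConcreteCategory.congr_hom (eqv.hom.naturality
      (homOfLE (Scheme.AffineZariskiSite.basicOpen_le ⟨U, hU⟩ r)).op) x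

end Groth.Agent.FiniteProjective
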